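import Groth.Prelude.Def_SuppFam
import Groth.Agent.LocCohZ.K287.Sheafify

/-!
# Sections with supports in a locally closed subset and the sheaves `ℤ_{V ⊓ V'}/ℤ_{W ⊓ V'}`
-/

set_option autoImplicit false
universe u

open CategoryTheory CategoryTheory.Limits Opposite TopologicalSpace
open Groth.Agent.CohtopA.Sec Groth.Agent.CohtopB.TopPull Groth.Agent.CohtopB.PullSect
open Groth.Agent.CohtopB.ExtRD Groth.Agent.LocCohZ.K287

namespace K787.SectLC

variable {X : TopCat.{u}} {W V : Opens X} (h : W ≤ V)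

/-- `V' ↦ ℤ_{V ⊓ V'}/ℤ_{W ⊓ V'}`. -/
noncomputable def zqLC : Opens X ⥤ CohTop.Ab X where
  obj V' := LocCohZ.zq (inf_le_inf_right V' h : W ⊓ V' ≤ V ⊓ V')
  map {V' V''} i := LocCohZ.zqMap (inf_le_inf_right V'' h) (inf_le_inf_right V' h)
    (inf_le_inf_left W (leOfHom i)) (inf_le_inf_left V (leOfHom i))
  map_id V' := SuppFam.zqMap_id _
  map_comp i j := (SuppFam.zqMap_comp _ _ _ _ _ _ _).symm

/-- The projection `ℤ_{V ⊓ V'} ⟶ ℤ_{V ⊓ V'}/ℤ_{W ⊓ V'}`. -/
noncomputable def πLC (V' : Opens X) :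
    CohCx.freeSheaf (Opens.grothendieckTopology X) (V ⊓ V') ⟶ (zqLC h).obj V' :=
  cokernel.π (CohCx.freeSheafMap (Opens.grothendieckTopology X)
    (homOfLE (inf_le_inf_right V' h : W ⊓ V' ≤ V ⊓ V')))

instance (V' : Opens X) : Epi (πLC h V') :=
  inferInstanceAs (Epi (cokernel.π (CohCx.freeSheafMap (Opens.grothendieckTopology X)
    (homOfLE (inf_le_inf_right V' h : W ⊓ V' ≤ V ⊓ V')))))

theorem freeSheafMap_πLC (V' : Opens X) :
    CohCx.freeSheafMap (Opens.grothendieckTopology X) (homOfLE (inf_le_inf_right V' h : W ⊓ V' ≤ V ⊓ V')) ≫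
      πLC h V' = 0 :=
  cokernel.condition _

theorem exists_desc {F : CohTop.Ab X} (V' : Opens X)
    (φ : CohCx.freeSheaf (Opens.grothendieckTopology X) (V ⊓ V') ⟶ F)
    (hφ : CohCx.freeSheafMap (Opens.grothendieckTopology X) (homOfLE (inf_le_inf_right V' h : W ⊓ V' ≤ V ⊓ V')) ≫
      φ = 0) :
    ∃ ψ : (zqLC h).obj V' ⟶ F, πLC h V' ≫ ψ = φ :=
  ⟨cokernel.desc _ φ hφ, cokernel.π_desc _ _ _⟩

/-- The functor `V' ↦ V ⊓ V'`. -/
def interF (V : Opens X) : Opens X ⥤ Opens X where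
  obj V' := V ⊓ V'
  map i := homOfLE (inf_le_inf_left V (leOfHom i))

@[reassoc]
theorem πLC_map {V' V'' : Opens X} (i : V' ⟶ V'') :
    πLC h V' ≫ (zqLC h).map i =
      CohCx.freeSheafMap (Opens.grothendieckTopology X) ((interF V).map i) ≫ πLC h V'' :=
  cokernel.π_desc _ _ _

/-- `F ↦ (V' ↦ F(V ⊓ V'))`. -/
noncomputable abbrev RV (V : Opens X) : CohTop.Ab X ⥤ (Opens X)ᵒᵖ ⥤ AddCommGrpCat.{u} :=
  sheafToPresheaf (Opens.grothendieckTopology X) AddCommGrpCat.{u} ⋙ (Functor.whiskeringLeft _ _ _).obj (interF V).op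

/-- `Hom(ℤ_{V ⊓ V'}/ℤ_{W ⊓ V'}, F) → F(V ⊓ V')`. -/
noncomputable def ev : homPre (zqLC h) ⟶ RV V where
  app F :=
    { app := fun V' => AddCommGrpCat.ofHom (AddMonoidHom.mk' (fun φ : (zqLC h).obj V'.unop ⟶ F =>
        CohFree.evalGen (Opens.grothendieckTopology X) (V ⊓ V'.unop) F (πLC h V'.unop ≫ φ)) (fun φ ψ => by
          rw [Preadditive.comp_add, map_add]; rfl))
      naturality := fun V' V'' i => by
        ext φ
        change CohFree.evalGen (Opens.grothendieckTopology X) (V ⊓ V''.unop) F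
          (πLC h V''.unop ≫ (zqLC h).map i.unop ≫ φ) = F.obj.map ((interF V).map i.unop).op
            (CohFree.evalGen (Opens.grothendieckTopology X) (V ⊓ V'.unop) F (πLC h V'.unop ≫ φ))
        rw [πLC_map_assoc]
        exact CohFree.evalGen_freeSheafMap_comp (Opens.grothendieckTopology X) ((interF V).map i.unop) F
          (πLC h V'.unop ≫ φ) }
  naturality F G g := by
    ext V' φ
    rfl

/-- The open of `X` attached to an open of `V`. -/
abbrev im (V : Opens X) (A : Opens (TopCat.of V)) : Opens X := V.isOpenEmbedding.isOpenMap.functor.obj A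

theorem mem_im {A : Opens (TopCat.of V)} {x : X} : x ∈ im V A ↔ ∃ hx : x ∈ V, (⟨x, hx⟩ : V) ∈ A := by
  constructor
  · rintro ⟨y, hy, rfl⟩
    exact ⟨y.2, hy⟩
  · rintro ⟨hx, hA⟩
    exact ⟨⟨x, hx⟩, hA, rfl⟩

theorem inf_le_im (V V' : Opens X) : V ⊓ V' ≤ im V (SuppFam.inOpen V V') := fun _ hx =>
  mem_im.2 ⟨hx.1, hx.2⟩

theorem im_le_inf (V V' : Opens X) : im V (SuppFam.inOpen V V') ≤ V ⊓ V' := fun x hx => by
  obtain ⟨h1, h2⟩ := mem_im.1 hx
  exact ⟨h1, h2⟩

theorem im_mono {A B : Opens (TopCat.of V)} (hAB : A ≤ B) : im V A ≤ im V B := fun x hx => by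
  obtain ⟨h1, h2⟩ := mem_im.1 hx
  exact mem_im.2 ⟨h1, hAB h2⟩

theorem r_restr (F : CohTop.Ab X) {A B : Opens (TopCat.of V)} (hAB : A ≤ B) (s : Γs (CohTop.restr F V) B) :
    r (CohTop.restr F V) hAB s = r F (im_mono hAB) s := rfl

/-- `Γ_Z(F)(V') → F(V ⊓ V')`. -/
noncomputable def κLC : SuppFam.sectSuppLC h ⋙ sheafToPresheaf (Opens.grothendieckTopology X) AddCommGrpCat.{u} ⟶
    RV V where
  app F :=
    { app := fun V' => AddCommGrpCat.ofHom ((r F (inf_le_im V V'.unop)).comp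
        (m ((Sect.κ (SuppFam.inOpen V W)).app (CohTop.restr F V)) (SuppFam.inOpen V V'.unop)))
      naturality := fun V' V'' i => by
        ext t
        change r F (inf_le_im V V''.unop) (m ((Sect.κ (SuppFam.inOpen V W)).app (CohTop.restr F V))
            (SuppFam.inOpen V V''.unop) (r ((LocCohZ.sectSuppF (SuppFam.inOpen V W)).obj (CohTop.restr F V))
              ((Opens.map (CohCx.incl V)).monotone (leOfHom i.unop)) t)) =
          r F (leOfHom ((interF V).map i.unop)) (r F (inf_le_im V V'.unop)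
            (m ((Sect.κ (SuppFam.inOpen V W)).app (CohTop.restr F V)) (SuppFam.inOpen V V'.unop) t))
        rw [m_r]
        refine (congrArg (r F (inf_le_im V V''.unop)) (r_restr F _ _)).trans ?_
        rw [r_r]
        exact (r_r _ _ _).symm }
  naturality F G g := by
    ext V' t
    change r G (inf_le_im V V'.unop) (m ((Sect.κ (SuppFam.inOpen V W)).app (CohTop.restr G V))
        (SuppFam.inOpen V V'.unop) (m ((LocCohZ.sectSuppF (SuppFam.inOpen V W)).map ((CohTop.restrFunctor V).map g))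
          (SuppFam.inOpen V V'.unop) t)) =
      m g (V ⊓ V'.unop) (r F (inf_le_im V V'.unop)
        (m ((Sect.κ (SuppFam.inOpen V W)).app (CohTop.restr F V)) (SuppFam.inOpen V V'.unop) t))
    rw [← m_comp, m_r]
    refine congrArg (r G (inf_le_im V V'.unop)) ?_
    have hn := (Sect.κ (SuppFam.inOpen V W)).naturality ((CohTop.restrFunctor V).map g)
    exact congrArg (fun φ => m φ (SuppFam.inOpen V V'.unop) t) hn

variable (F : CohTop.Ab X) (V' : Opens X)

theorem κLC_injective : Function.Injective (((κLC h).app F).app (op V')) := by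
  intro a b hab
  have h1 : r F (inf_le_im V V') (m ((Sect.κ (SuppFam.inOpen V W)).app (CohTop.restr F V)) (SuppFam.inOpen V V') a) =
      r F (inf_le_im V V') (m ((Sect.κ (SuppFam.inOpen V W)).app (CohTop.restr F V)) (SuppFam.inOpen V V') b) := hab
  have h2 := congrArg (r F (im_le_inf V V')) h1
  rw [r_r, r_r, r_self, r_self] at h2
  exact Sect.κ_injective (SuppFam.inOpen V W) (CohTop.restr F V) (SuppFam.inOpen V V') h2

theorem mem_range_κLC_iff (s : Γs F (V ⊓ V')) :
    (∃ t, ((κLC h).app F).app (op V') t = s) ↔ r F (inf_le_inf_right V' h : W ⊓ V' ≤ V ⊓ V') s = 0 := by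
  have hle : im V (SuppFam.inOpen V V' ⊓ SuppFam.inOpen V W) ≤ W ⊓ V' := fun x hx => by
    obtain ⟨h1, h2, h3⟩ := mem_im.1 hx
    exact ⟨h3, h2⟩
  have hle' : W ⊓ V' ≤ im V (SuppFam.inOpen V V' ⊓ SuppFam.inOpen V W) := fun x hx =>
    mem_im.2 ⟨h hx.1, hx.2, hx.1⟩
  have key := Sect.mem_range_κ_iff (SuppFam.inOpen V W) (CohTop.restr F V) (SuppFam.inOpen V V')
    (r F (im_le_inf V V') s)
  have e1 : (∃ t, ((κLC h).app F).app (op V') t = s) ↔
      ∃ t, m ((Sect.κ (SuppFam.inOpen V W)).app (CohTop.restr F V)) (SuppFam.inOpen V V') t =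
        r F (im_le_inf V V') s := by
    constructor
    · rintro ⟨t, ht⟩
      refine ⟨t, ?_⟩
      rw [← ht]
      change _ = r F (im_le_inf V V') (r F (inf_le_im V V') _)
      rw [r_r, r_self]
      rfl
    · rintro ⟨t, ht⟩
      refine ⟨t, ?_⟩
      change r F (inf_le_im V V') (m ((Sect.κ (SuppFam.inOpen V W)).app (CohTop.restr F V))
        (SuppFam.inOpen V V') t) = s
      rw [ht, r_r, r_self]
  have e2 : r (CohTop.restr F V) (inf_le_left : SuppFam.inOpen V V' ⊓ SuppFam.inOpen V W ≤ SuppFam.inOpen V V')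
      (r F (im_le_inf V V') s) = 0 ↔ r F (inf_le_inf_right V' h : W ⊓ V' ≤ V ⊓ V') s = 0 := by
    rw [r_restr, r_r]
    constructor
    · intro h0
      have := congrArg (r F hle') h0
      rw [r_r] at this
      exact this.trans (map_zero _)
    · intro h0
      have := congrArg (r F hle) h0
      rw [r_r] at this
      exact this.trans (map_zero _)
  exact e1.trans (key.trans e2)

theorem ev_injective : Function.Injective (((ev h).app F).app (op V')) := by
  intro a b hab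
  apply (cancel_epi (πLC h V')).1
  apply Sect.evalGen_injective
  exact hab

theorem mem_range_ev_iff (s : Γs F (V ⊓ V')) :
    (∃ t, ((ev h).app F).app (op V') t = s) ↔ r F (inf_le_inf_right V' h : W ⊓ V' ≤ V ⊓ V') s = 0 := by
  constructor
  · rintro ⟨t, rfl⟩
    have h1 := CohFree.evalGen_freeSheafMap_comp (Opens.grothendieckTopology X)
      (homOfLE (inf_le_inf_right V' h : W ⊓ V' ≤ V ⊓ V')) F (πLC h V' ≫ t)
    refine Eq.trans h1.symm ?_
    rw [← Category.assoc, freeSheafMap_πLC, zero_comp, map_zero]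
  · intro h0
    have h1 : CohCx.freeSheafMap (Opens.grothendieckTopology X)
        (homOfLE (inf_le_inf_right V' h : W ⊓ V' ≤ V ⊓ V')) ≫
        CohFree.ofSect (Opens.grothendieckTopology X) (V ⊓ V') F s = 0 := by
      apply Sect.evalGen_injective
      rw [CohFree.evalGen_freeSheafMap_comp, CohFree.evalGen_ofSect, map_zero]
      exact h0
    obtain ⟨ψ, hψ⟩ := exists_desc h V' _ h1
    refine ⟨ψ, ?_⟩
    change CohFree.evalGen (Opens.grothendieckTopology X) (V ⊓ V') F (πLC h V' ≫ ψ) = s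
    rw [hψ, CohFree.evalGen_ofSect]

/-- `Hom(ℤ_{V ⊓ V'}/ℤ_{W ⊓ V'}, F) = Γ_Z(F)(V')`, naturally in `F` and `V'`. -/
noncomputable def homPreIso : homPre (zqLC h) ≅
    SuppFam.sectSuppLC h ⋙ sheafToPresheaf (Opens.grothendieckTopology X) AddCommGrpCat.{u} :=
  Range.isoOfRange (ev h) (κLC h) (fun F V' => ev_injective h F V'.unop) (fun F V' => κLC_injective h F V'.unop)
    (fun F V' => by
      ext s
      refine Iff.trans (mem_range_ev_iff h F V'.unop s) (mem_range_κLC_iff h F V'.unop s).symm)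

open Sheafify Groth.Agent.CohtopA.RDComp in
/-- `Γ_Z ≅ sheafification of Hom(ℤ_{V ⊓ V'}/ℤ_{W ⊓ V'}, -)`. -/
noncomputable def sectIso : SuppFam.sectSuppLC h ≅ homPre (zqLC h) ⋙ shf X :=
  (Functor.rightUnitor _).symm ≪≫
    Functor.isoWhiskerLeft (SuppFam.sectSuppLC h)
      (asIso (sheafificationAdjunction (Opens.grothendieckTopology X) AddCommGrpCat.{u}).counit).symm ≪≫
    (Functor.associator _ _ _).symm ≪≫
    Functor.isoWhiskerRight (homPreIso h).symm (shf X)

open Sheafify Groth.Agent.CohtopA.RDComp in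
/-- `ℋ^q_Z(F)` is the sheafification of `V' ↦ Ext^q(ℤ_{V ⊓ V'}/ℤ_{W ⊓ V'}, F)`, naturally in `F`. -/
noncomputable def HZshLCIso (q : ℕ) : SuppFam.HZshLC h q ≅ extPre (zqLC h) q ⋙ shf X :=
  rightDerivedCongr (sectIso h) q ≪≫
    rightDerivedCompIso (homPre (zqLC h)) (shf X) q ≪≫
    Functor.isoWhiskerRight (extPreIso (zqLC h) q) (shf X)

end K787.SectLC
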