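import Groth.Agent.SuppFam.K787.ModLCComp

/-!
# `R^i G ⋙ toAb ≅ toAb ⋙ ℋ^i_Z`
-/

set_option autoImplicit false
universe u

open CategoryTheory CategoryTheory.Limits AlgebraicGeometry Opposite TopologicalSpace
open Groth.Agent.CohtopA.Sec Groth.Agent.CohtopB.ExtRD Groth.Agent.LocCohZ.K287

namespace K787.ModLCFinal

noncomputable section

variable {Y : Scheme.{u}} {V₂ V₁ : Y.Opens} (h : V₂ ≤ V₁)

instance preservesFiniteLimits_G : PreservesFiniteLimits (ModLC.G h) := by
  have h0 : PreservesFiniteLimits (SheafOfModules.toSheaf Y.ringCatSheaf) := inferInstance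
  have h1 : PreservesFiniteLimits (SheafOfModules.toSheaf Y.ringCatSheaf ⋙
      SuppFam.sectSuppLC (X := Y.carrier) h) := comp_preservesFiniteLimits _ _
  have h2 : PreservesFiniteLimits (ModLC.G h ⋙ SheafOfModules.toSheaf Y.ringCatSheaf) :=
    preservesFiniteLimits_of_natIso (ModLCComp.compIso h).symm
  exact preservesFiniteLimits_of_reflects_of_preserves _ (SheafOfModules.toSheaf Y.ringCatSheaf)

open Groth.Agent.CohtopA.Shifts in
theorem nonempty_iso [HasInjectiveResolutions Y.Modules] (F : Y.Modules) (i : ℕ) :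
    Nonempty (Coh.toAb (((ModLC.G h).rightDerived i).obj F) ≅
      (SuppFam.HZshLC (X := Y.carrier) h i).obj (Coh.toAb F)) := by
  have h0 : IsGrothendieckAbelian.{u} Y.Modules := Groth.Agent.S0484.result _ Y.ringCatSheaf
  have h1 : EnoughInjectives Y.Modules := inferInstance
  have hA := (shifts_rightDerived (ModLC.G h)).postcomp (SheafOfModules.toSheaf Y.ringCatSheaf)
  have hB := shifts_comp (SheafOfModules.toSheaf Y.ringCatSheaf) (SuppFam.sectSuppLC (X := Y.carrier) h)
    (fun I hI n => by
      have := @Groth.Agent.Ega3B.InjMod.isFlasque_of_injective _ I hI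
      exact ModLCComp.isZero_HZshLC_of_isFlasque (X := Y.carrier) h (Coh.toAb I) n)
  exact Groth.Agent.CohtopA.Shifts.nonempty_iso hA hB (ModLCComp.compIso h) i F

end

end K787.ModLCFinal
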