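import Groth.Prelude.Def_SuppFam
import Groth.Agent.PerfB.GammaZ
import Groth.Agent.Cohder.RDInt

/-!
# Sections with supports in a locally closed subset, for modules on a scheme

`G h : Y.Modules ⥤ Y.Modules` is the kernel of `j₁_* j₁^* M ⟶ j₂_* j₂^* M` for opens `V₂ ≤ V₁` of `Y`.
-/

set_option autoImplicit false
universe u

open CategoryTheory CategoryTheory.Limits AlgebraicGeometry Opposite TopologicalSpace

namespace K787.ModLC

open Groth.Agent.PerfB.RGPlus Groth.Agent.PerfA.QCohSerre Groth.Agent.PerfB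

noncomputable section

variable {Y : Scheme.{u}} {V₂ V₁ : Y.Opens} (h : V₂ ≤ V₁)

/-- `j_* j^*`. -/
abbrev P (V : Y.Opens) : Y.Modules ⥤ Y.Modules :=
  Scheme.Modules.restrictFunctor V.ι ⋙ Scheme.Modules.pushforward V.ι

/-- `M ⟶ j_* j^* M`. -/
abbrev η (V : Y.Opens) : 𝟭 Y.Modules ⟶ P V := (Scheme.Modules.restrictAdjunction V.ι).unit

theorem η_app_app (V : Y.Opens) (M : Y.Modules) (U : Y.Opens) :
    ((η V).app M).app U = M.presheaf.map (homOfLE (V.ι.image_preimage_le U)).op := rfl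

theorem image_eq (V U : Y.Opens) : V.ι ''ᵁ (V.ι ⁻¹ᵁ U) = V ⊓ U := by
  rw [Scheme.Hom.image_preimage_eq_opensRange_inf, Scheme.Opens.opensRange_ι]

include h in
theorem image_le (U : Y.Opens) : V₂.ι ''ᵁ (V₂.ι ⁻¹ᵁ U) ≤ V₁.ι ''ᵁ (V₁.ι ⁻¹ᵁ U) := by
  rw [image_eq, image_eq]
  exact inf_le_inf_right _ h

include h in
theorem image_image_eq (U : V₂.toScheme.Opens) :
    V₁.ι ''ᵁ (V₁.ι ⁻¹ᵁ (V₂.ι ''ᵁ U)) = V₂.ι ''ᵁ U := by
  rw [image_eq]
  refine inf_eq_right.2 (le_trans ?_ h)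
  rintro x ⟨y, hy, rfl⟩
  exact y.2

theorem isIso_map (M : Y.Modules) {A B : Y.Opens} (hAB : A ≤ B) (hBA : B ≤ A) :
    IsIso (M.presheaf.map (homOfLE hAB).op) := by
  have h1 : IsIso (homOfLE hAB) := ⟨homOfLE hBA, rfl, rfl⟩
  infer_instance

/-- `j₂^* M ⟶ j₂^* j₁_* j₁^* M`. -/
def τ : Scheme.Modules.restrictFunctor V₂.ι ⟶ P V₁ ⋙ Scheme.Modules.restrictFunctor V₂.ι :=
  Functor.whiskerRight (η V₁) (Scheme.Modules.restrictFunctor V₂.ι)

theorem τ_app_app (M : Y.Modules) (U : V₂.toScheme.Opens) :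
    ((τ (V₁ := V₁) (V₂ := V₂)).app M).app U =
      M.presheaf.map (homOfLE (V₁.ι.image_preimage_le (V₂.ι ''ᵁ U))).op := rfl

include h in
theorem isIso_τ : IsIso (τ (V₁ := V₁) (V₂ := V₂)) := by
  rw [NatTrans.isIso_iff_isIso_app]
  intro M
  rw [Scheme.Modules.Hom.isIso_iff_isIso_app]
  intro U
  exact isIso_map M (V₁.ι.image_preimage_le (V₂.ι ''ᵁ U)) (image_image_eq h U).ge

/-- `j₁_* j₁^* M ⟶ j₂_* j₂^* M`. -/
def ρ : P V₁ ⟶ P V₂ :=
  haveI := isIso_τ h
  Functor.whiskerLeft (P V₁) (η V₂) ≫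
    Functor.whiskerRight (inv (τ (V₁ := V₁) (V₂ := V₂))) (Scheme.Modules.pushforward V₂.ι)

theorem ρ_comp : ρ h ≫ Functor.whiskerRight (τ (V₁ := V₁) (V₂ := V₂)) (Scheme.Modules.pushforward V₂.ι) =
    Functor.whiskerLeft (P V₁) (η V₂) := by
  haveI := isIso_τ h
  rw [ρ, Category.assoc, ← Functor.whiskerRight_comp, IsIso.inv_hom_id, Functor.whiskerRight_id']
  exact Category.comp_id _

theorem ρ_app_app (M : Y.Modules) (U : Y.Opens) :
    ((ρ h).app M).app U = M.presheaf.map (homOfLE (image_le h U)).op := by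
  have h1 := congrArg (fun φ => (φ.app M).app U) (ρ_comp h)
  have h2 : IsIso (M.presheaf.map (homOfLE (V₁.ι.image_preimage_le (V₂.ι ''ᵁ (V₂.ι ⁻¹ᵁ U)))).op) :=
    isIso_map M _ (image_image_eq h _).ge
  refine (cancel_mono (M.presheaf.map (homOfLE (V₁.ι.image_preimage_le (V₂.ι ''ᵁ (V₂.ι ⁻¹ᵁ U)))).op)).1 ?_
  exact Eq.trans h1 (M.presheaf.map_comp (homOfLE (image_le h U)).op
    (homOfLE (V₁.ι.image_preimage_le (V₂.ι ''ᵁ (V₂.ι ⁻¹ᵁ U)))).op)

/-- The kernel of `j₁_* j₁^* M ⟶ j₂_* j₂^* M`. -/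
def G : Y.Modules ⥤ Y.Modules where
  obj M := kernel ((ρ h).app M)
  map {M N} φ := kernel.map _ _ ((P V₁).map φ) ((P V₂).map φ) ((ρ h).naturality φ).symm
  map_id M := by
    apply equalizer.hom_ext
    simp
  map_comp φ ψ := by
    apply equalizer.hom_ext
    simp

/-- The inclusion `G M ⟶ j₁_* j₁^* M`. -/
def ι : G h ⟶ P V₁ where
  app M := kernel.ι ((ρ h).app M)
  naturality _ _ _ := kernel.lift_ι _ _ _

instance (M : Y.Modules) : Mono ((ι h).app M) := inferInstanceAs (Mono (kernel.ι _))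

instance : (G h).Additive where
  map_add {M N f g} := by
    rw [← cancel_mono ((ι h).app N), Preadditive.add_comp, (ι h).naturality, (ι h).naturality,
      (ι h).naturality, ← Preadditive.comp_add, (P V₁).map_add]

theorem ι_app_ρ_app (M : Y.Modules) : (ι h).app M ≫ (ρ h).app M = 0 := kernel.condition _

theorem epi_ρ (I : Y.Modules) [Injective I] : Epi ((ρ h).app I) := by
  refine ModExact.epi_of_locally_surjective _ fun V y x hx => ?_
  obtain ⟨z, hz⟩ := Groth.Agent.Ega3B.InjMod.surjective_map_of_injective I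
    (homOfLE (image_le h V)) y
  refine ⟨V, le_rfl, hx, z, ?_⟩
  rw [ρ_app_app]
  refine Eq.trans (b := y) hz ?_
  have h : (homOfLE (le_refl V)).op = 𝟙 (op V) := rfl
  rw [h, CategoryTheory.Functor.map_id]
  rfl

/-- `G I ⟶ j₁_* j₁^* I`. -/
def α (I : CochainComplex Y.Modules ℤ) :
    ((G h).mapHomologicalComplex (.up ℤ)).obj I ⟶ GammaZ.pr V₁.ι I where
  f n := (ι h).app (I.X n)
  comm' _ _ _ := ((ι h).naturality _).symm

/-- `j₁_* j₁^* I ⟶ j₂_* j₂^* I`. -/
def β (I : CochainComplex Y.Modules ℤ) : GammaZ.pr V₁.ι I ⟶ GammaZ.pr V₂.ι I where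
  f n := (ρ h).app (I.X n)
  comm' m n _ := ((ρ h).naturality (I.d m n)).symm

/-- `0 ⟶ G I ⟶ j₁_* j₁^* I ⟶ j₂_* j₂^* I`. -/
@[simps]
def S (I : CochainComplex Y.Modules ℤ) : ShortComplex (CochainComplex Y.Modules ℤ) where
  X₁ := ((G h).mapHomologicalComplex (.up ℤ)).obj I
  X₂ := GammaZ.pr V₁.ι I
  X₃ := GammaZ.pr V₂.ι I
  f := α h I
  g := β h I
  zero := by
    ext n : 1
    exact ι_app_ρ_app h (I.X n)

theorem shortExact_S (I : CochainComplex Y.Modules ℤ) (hI : ∀ n, Injective (I.X n)) :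
    (S h I).ShortExact := by
  refine HomologicalComplex.shortExact_of_degreewise_shortExact _ fun n => ?_
  have := hI n
  have h1 : Epi ((ρ h).app (I.X n)) := epi_ρ h (I.X n)
  exact { exact := ShortComplex.exact_of_f_is_kernel _
            (kernelIsKernel ((ρ h).app (I.X n)))
          mono_f := inferInstanceAs (Mono (kernel.ι ((ρ h).app (I.X n))))
          epi_g := h1 }

/-- `G I` has quasi-coherent cohomology sheaves. -/
theorem isQCoh_homology_G [QuasiCompact V₁.ι] [QuasiCompact V₂.ι] (I : CochainComplex Y.Modules ℤ)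
    (hI : ∀ n, Injective (I.X n))
    (a : ℤ) [I.IsStrictlyGE a] (hq : ∀ n, Coh.IsQCoh (I.homology n)) (n : ℤ) :
    Coh.IsQCoh ((((G h).mapHomologicalComplex (.up ℤ)).obj I).homology n) := by
  have hS := shortExact_S h I hI
  have hp₁ := GammaZ.isQCoh_homology_pr V₁.ι I hI a hq
  have hp₂ := GammaZ.isQCoh_homology_pr V₂.ι I hI a hq
  exact TriDev.five (qcoh Y) _ _ _ _ _ _ _ (hS.homology_exact₃ (n - 1) n (by simp))
    (hS.homology_exact₁ (n - 1) n (by simp)) (hS.homology_exact₂ n) (hp₁ (n - 1)) (hp₂ (n - 1)) (hp₁ n) (hp₂ n)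

theorem isQCoh_rightDerived_G [QuasiCompact V₁.ι] [QuasiCompact V₂.ι]
    [HasInjectiveResolutions Y.Modules] (M : Y.Modules) (hM : Coh.IsQCoh M) (q : ℕ) :
    Coh.IsQCoh (((G h).rightDerived q).obj M) := by
  obtain ⟨R⟩ : Nonempty (InjectiveResolution M) := ⟨injectiveResolution M⟩
  refine isQCoh_of_iso (Groth.Agent.Cohder.RDInt.isoH₀ (G h) R q (q : ℤ) rfl).symm ?_
  refine isQCoh_homology_G h R.cochainComplex (fun n => inferInstance) 0 ?_ _
  intro n
  have e : ((CochainComplex.singleFunctor Y.Modules 0).obj M).homology n ≅ R.cochainComplex.homology n :=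
    asIso (HomologicalComplex.homologyMap R.ι' n)
  refine isQCoh_of_iso e ?_
  by_cases hn : n = 0
  · subst hn
    exact isQCoh_of_iso (HomologicalComplex.singleObjHomologySelfIso (ComplexShape.up ℤ) 0 M).symm hM
  · exact isQCoh_of_isZero ((HomologicalComplex.exactAt_single_obj (ComplexShape.up ℤ) 0 M n hn).isZero_homology)

end

end K787.ModLC
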