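import Groth.Agent.SuppFam.K787.ModLC
import Groth.Agent.SuppFam.K787.SectLC
import Groth.Agent.CurvesC.KerSec
import Groth.Agent.CohtopA.Shifts
import Groth.Agent.LocCohZ.K287.LocVan
import Groth.Agent.CohtopA.RestrCoh
import Groth.Agent.CohtopA.PushExact

/-!
# Local cohomology sheaves of modules and of abelian sheaves (locally closed supports)
-/

set_option autoImplicit false
universe u

open CategoryTheory CategoryTheory.Limits AlgebraicGeometry Opposite TopologicalSpace
open Groth.Agent.CohtopA.Sec Groth.Agent.CohtopB.ExtRD Groth.Agent.LocCohZ.K287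

namespace K787.ModLCComp

noncomputable section

section Exact

theorem preservesFiniteLimits_homPre {C : Type u} [SmallCategory C] {A : Type*} [Category.{u} A] [Abelian A]
    (Z : C ⥤ A) : PreservesFiniteLimits (homPre Z) :=
  preservesFiniteLimits_of_evaluation _ fun d =>
    inferInstanceAs (PreservesFiniteLimits (preadditiveCoyoneda.obj (op (Z.obj d.unop))))

variable {X : TopCat.{u}} {W V : Opens X} (h : W ≤ V)

instance preservesFiniteLimits_sectSuppLC : PreservesFiniteLimits (SuppFam.sectSuppLC h) := by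
  have h1 := preservesFiniteLimits_homPre (SectLC.zqLC h)
  have h2 : PreservesFiniteLimits (SuppFam.sectSuppLC h ⋙
      sheafToPresheaf (Opens.grothendieckTopology X) AddCommGrpCat.{u}) :=
    preservesFiniteLimits_of_natIso (SectLC.homPreIso h)
  exact preservesFiniteLimits_of_reflects_of_preserves _
    (sheafToPresheaf (Opens.grothendieckTopology X) AddCommGrpCat.{u})

/-- If all the groups `H^q(V ⊓ V', W ⊓ V'; F)` vanish, so does `ℋ^q_Z(F)`. -/
theorem isZero_HZshLC (F : CohTop.Ab X) (q : ℕ)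
    (h0 : ∀ V' : Opens X, Subsingleton (LocCohZ.HZ F q (inf_le_inf_right V' h : W ⊓ V' ≤ V ⊓ V'))) :
    IsZero ((SuppFam.HZshLC h q).obj F) := by
  refine IsZero.of_iso ?_ ((SectLC.HZshLCIso h q).app F)
  refine (Sheafify.shf X).map_isZero ?_
  rw [Functor.isZero_iff]
  intro V'
  exact @AddCommGrpCat.isZero_of_subsingleton _ (h0 V'.unop)

theorem isZero_HZshLC_of_isFlasque (F : CohTop.Ab X) [TopCat.Sheaf.IsFlasque F] (q : ℕ) :
    IsZero ((SuppFam.HZshLC h (q + 1)).obj F) :=
  isZero_HZshLC h F (q + 1) fun V' => LocVan.subsingleton_HZ_of_isFlasque F (inf_le_inf_right V' h) q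

end Exact

section Comp

variable {Y : Scheme.{u}} {V₂ V₁ : Y.Opens} (h : V₂ ≤ V₁)

/-- `G M (V') ⟶ M(V₁ ⊓ V')`. -/
def κG : (ModLC.G h ⋙ SheafOfModules.toSheaf Y.ringCatSheaf) ⋙
      sheafToPresheaf (Opens.grothendieckTopology Y.carrier) AddCommGrpCat.{u} ⟶
    SheafOfModules.toSheaf Y.ringCatSheaf ⋙ SectLC.RV (X := Y.carrier) V₁ where
  app M :=
    { app := fun V' => ((ModLC.ι h).app M).app V'.unop ≫
        M.presheaf.map (homOfLE (ModLC.image_eq V₁ V'.unop).ge).op
      naturality := fun V' V'' i => by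
        have h1 := ((ModLC.ι h).app M).mapPresheaf.naturality i
        refine Eq.trans (((Category.assoc _ _ _).symm).trans
          (congrArg (fun φ => φ ≫ M.presheaf.map (homOfLE (ModLC.image_eq V₁ V''.unop).ge).op) h1)) ?_
        refine (Category.assoc _ _ _).trans (Eq.trans ?_ (Category.assoc _ _ _).symm)
        refine congrArg (fun φ => ((ModLC.ι h).app M).app V'.unop ≫ φ) ?_
        exact (M.presheaf.map_comp _ _).symm.trans (M.presheaf.map_comp
          (homOfLE (ModLC.image_eq V₁ V'.unop).ge).op ((SectLC.interF V₁).map i.unop).op) }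
  naturality M N f := by
    ext V' t
    have h1 := congrArg (fun φ => Scheme.Modules.Hom.app φ V'.unop t) ((ModLC.ι h).naturality f)
    refine Eq.trans (congrArg (N.presheaf.map (homOfLE (ModLC.image_eq V₁ V'.unop).ge).op) h1) ?_
    exact (ConcreteCategory.congr_hom
      (f.mapPresheaf.naturality (homOfLE (ModLC.image_eq V₁ V'.unop).ge).op) _).symm

variable (M : Y.Modules) (V' : Y.Opens)

theorem κG_apply (t : Γ((ModLC.G h).obj M, V')) : ((κG h).app M).app (op V') t =
    M.presheaf.map (homOfLE (ModLC.image_eq V₁ V').ge).op (((ModLC.ι h).app M).app V' t) := rfl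

theorem injective_map {A B : Y.Opens} (hAB : A ≤ B) (hBA : B ≤ A) :
    Function.Injective (M.presheaf.map (homOfLE hAB).op) := by
  have h1 := ModLC.isIso_map M hAB hBA
  exact ((ConcreteCategory.isIso_iff_bijective _).1 h1).1

theorem map_map {A B C : Y.Opens} (hAB : A ≤ B) (hBC : B ≤ C) (s : Γ(M, C)) :
    M.presheaf.map (homOfLE hAB).op (M.presheaf.map (homOfLE hBC).op s) =
      M.presheaf.map (homOfLE (hAB.trans hBC)).op s :=
  (ConcreteCategory.congr_hom (M.presheaf.map_comp (homOfLE hBC).op (homOfLE hAB).op) s).symm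

theorem map_self {A : Y.Opens} (hA : A ≤ A) (s : Γ(M, A)) :
    M.presheaf.map (homOfLE hA).op s = s :=
  ConcreteCategory.congr_hom (M.presheaf.map_id (op A)) s

theorem κG_injective : Function.Injective (((κG h).app M).app (op V')) := by
  intro a b hab
  rw [κG_apply, κG_apply] at hab
  exact Groth.Agent.CurvesC.KerSec.kernel_ι_app_injective ((ModLC.ρ h).app M) V'
    (injective_map M _ (ModLC.image_eq V₁ V').le hab)

theorem ρ_apply (s : Γ(M, V₁.ι ''ᵁ (V₁.ι ⁻¹ᵁ V'))) :
    ((ModLC.ρ h).app M).app V' s = M.presheaf.map (homOfLE (ModLC.image_le h V')).op s :=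
  ConcreteCategory.congr_hom (ModLC.ρ_app_app h M V') s

theorem mem_range_κG_iff (s : Γ(M, V₁ ⊓ V')) :
    (∃ t, ((κG h).app M).app (op V') t = s) ↔
      M.presheaf.map (homOfLE (inf_le_inf_right V' h : V₂ ⊓ V' ≤ V₁ ⊓ V')).op s = 0 := by
  constructor
  · rintro ⟨t, rfl⟩
    rw [κG_apply, map_map]
    have h1 : ((ModLC.ρ h).app M).app V' (((ModLC.ι h).app M).app V' t) = 0 :=
      congrArg (fun φ => Scheme.Modules.Hom.app φ V' t) (ModLC.ι_app_ρ_app h M)
    rw [ρ_apply] at h1
    have h2 := congrArg (M.presheaf.map (homOfLE (ModLC.image_eq V₂ V').ge).op) h1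
    rw [map_map] at h2
    exact h2.trans (map_zero (M.presheaf.map (homOfLE (ModLC.image_eq V₂ V').ge).op).hom)
  · intro h0
    have h1 : ((ModLC.ρ h).app M).app V' (M.presheaf.map (homOfLE (ModLC.image_eq V₁ V').le).op s) = 0 := by
      rw [ρ_apply, map_map]
      have h2 := congrArg (M.presheaf.map (homOfLE (ModLC.image_eq V₂ V').le).op) h0
      rw [map_map] at h2
      exact h2.trans (map_zero (M.presheaf.map (homOfLE (ModLC.image_eq V₂ V').le).op).hom)
    obtain ⟨t, ht⟩ := Groth.Agent.CurvesC.KerSec.exists_kernel_ι_app_eq ((ModLC.ρ h).app M) V' _ h1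
    refine ⟨t, ?_⟩
    rw [κG_apply]
    refine (congrArg (M.presheaf.map (homOfLE (ModLC.image_eq V₁ V').ge).op) ht).trans ?_
    rw [map_map, map_self]

/-- `G ⋙ toAb ≅ toAb ⋙ Γ_Z`. -/
def compIso : ModLC.G h ⋙ SheafOfModules.toSheaf Y.ringCatSheaf ≅
    SheafOfModules.toSheaf Y.ringCatSheaf ⋙ SuppFam.sectSuppLC (X := Y.carrier) h :=
  ((fullyFaithfulSheafToPresheaf (Opens.grothendieckTopology Y.carrier)
    AddCommGrpCat.{u}).whiskeringRight Y.Modules).preimageIso
    (Range.isoOfRange (κG h)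
      (Functor.whiskerLeft (SheafOfModules.toSheaf Y.ringCatSheaf) (SectLC.κLC (X := Y.carrier) h))
      (fun M V' => κG_injective h M V'.unop) (fun M V' => SectLC.κLC_injective (X := Y.carrier) h (Coh.toAb M) V'.unop)
      (fun M V' => by
        ext s
        exact Iff.trans (mem_range_κG_iff h M V'.unop s)
          (SectLC.mem_range_κLC_iff (X := Y.carrier) h (Coh.toAb M) V'.unop s).symm))

end Comp

end

end K787.ModLCComp
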